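import Cfsg.Agent.H998.EPA.SixCount
import Cfsg.Agent.H419.EP.Soc

/-!
# S3499-IV-L A6: extremely primitive groups whose point stabilisers have socle `A₆` (helper998)

The index is at most 2791 and the group has fewer than 4680000 elements.
-/

set_option autoImplicit false

namespace Cfsg.Agent.H998.EPA

open Subgroup Equiv Cfsg.Agent.H417.EP Cfsg.Agent.H419.EP Cfsg.Agent.H284

theorem ncomm_L6 : ∃ a b : L6, a * b ≠ b * a := by
  obtain ⟨x, hx⟩ : ∃ x : L6, x ^ 2 = 1 ∧ x ≠ 1 := by
    have h6 : 0 < Nat.card {u : L6 // u ^ 2 = 1 ∧ u ≠ 1} := by rw [card_two]; norm_num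
    obtain ⟨⟨x, hx⟩⟩ := (Nat.card_pos_iff.1 h6).1
    exact ⟨x, hx⟩
  by_contra hcon
  push Not at hcon
  have h7 := (two_facts hx.1 hx.2).1
  have h8 : cen x = ⊤ := by
    rw [eq_top_iff]
    intro g _
    exact hcon x g
  have h9 := card_cen h7
  rw [h8, Subgroup.card_top, card_L6] at h9
  omega

theorem center_L6 {z : L6} (hz : ∀ x, z * x = x * z) : z = 1 := by
  have h1 : z ∈ center L6 := mem_center_iff.2 fun g => (hz g).symm
  rcases (inferInstance : (center L6).Normal).eq_bot_or_eq_top with h2 | h2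
  · rwa [h2, mem_bot] at h1
  · exfalso
    obtain ⟨a, b, hab⟩ := ncomm_L6
    have h3 : b ∈ center L6 := by rw [h2]; exact mem_top b
    exact hab (mem_center_iff.1 h3 a)

/-- commutators of automorphisms of `A₆` are inner -/
theorem out_comm_L6 (α β : MulAut L6) : α * β * α⁻¹ * β⁻¹ ∈ (MulAut.conj : L6 →* MulAut L6).range := by
  have hinj : Function.Injective (MulAut.conj : L6 →* MulAut L6) := by
    rw [injective_iff_map_eq_one]
    intro z hz
    apply center_L6
    intro x
    have h1 := DFunLike.congr_fun hz x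
    rw [MulAut.conj_apply, MulAut.one_apply, mul_inv_eq_iff_eq_mul] at h1
    exact h1
  have h1 : Nat.card (MulAut.conj : L6 →* MulAut L6).range = 360 := by
    rw [← card_L6]
    exact (Nat.card_congr (MonoidHom.ofInjective hinj).toEquiv).symm
  have h2 : (MulAut.conj : L6 →* MulAut L6).range.index = 4 := by
    have h3 := (MulAut.conj : L6 →* MulAut L6).range.card_mul_index
    rw [h1, Cfsg.Agent.H824.ProdLem.card_aut_a6] at h3
    omega
  have hn : (MulAut.conj : L6 →* MulAut L6).range.Normal := by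
    refine ⟨?_⟩
    rintro _ ⟨z, rfl⟩ g
    refine ⟨g z, ?_⟩
    ext x
    rw [MulAut.conj_apply, MulAut.mul_apply, MulAut.mul_apply, MulAut.conj_apply, map_mul, map_mul, map_inv, MulAut.apply_inv_self]
  have hcard : Nat.card (MulAut L6 ⧸ (MulAut.conj : L6 →* MulAut L6).range) = 2 ^ 2 := h2
  have := Fact.mk Nat.prime_two
  have hc := IsPGroup.isMulCommutative_of_card_eq_prime_sq hcard
  rw [← QuotientGroup.eq_one_iff]
  have h3 : ∀ a b : MulAut L6 ⧸ (MulAut.conj : L6 →* MulAut L6).range, a * b = b * a := fun a b => hc.is_comm.comm a b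
  rw [QuotientGroup.mk_mul, QuotientGroup.mk_mul, QuotientGroup.mk_mul, QuotientGroup.mk_inv, QuotientGroup.mk_inv, h3 (α : _ ⧸ _) β,
    mul_inv_cancel_right, mul_inv_cancel]

variable {Q : Type*} [Group Q] [Finite Q] {A : Subgroup Q} {Γ : Subgroup (MulAut Q)}

/-- **The point stabiliser has socle `A₆`: the index is at most 2791.** -/
theorem index_le_six (h : EPT A Γ) (hs : HasSoc A (alternatingGroup (Fin 6))) : A.index ≤ 2791 := by
  classical
  obtain ⟨N, hNA, hN, hcent, ⟨e⟩⟩ := hs
  have hi : Inv A Γ (emb e) := base_inv h hNA hN e hcent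
  have hne : ∀ x, x ∉ A → tr (emb e) A x ≠ ⊥ := fun x hx => base_tr h hNA hN ncomm_L6 e hcent out_comm_L6 hx
  have h1 := weight_bound h hi hne (fun t => wt t) wt_one (c := 5) (W := 45) (m := 311)
    (fun K hK => by
      have := five_le hK
      convert this) (by convert sum_wt) ncard_adm
  omega

omit [Finite Q] in
theorem card_le_six (hs : HasSoc A (alternatingGroup (Fin 6))) : Nat.card A ≤ 1440 := by
  have := hs.card_le
  rwa [Cfsg.Agent.H824.ProdLem.card_aut_a6] at this

/-- **The point stabiliser has socle `A₆`: `|Q| < 4680000`.** -/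
theorem card_lt_six (h : EPT A Γ) (hs : HasSoc A (alternatingGroup (Fin 6))) : Nat.card Q < 4680000 := by
  have h1 := index_le_six h hs
  have h2 := card_le_six hs
  have h3 := A.card_mul_index
  have h4 : Nat.card A * A.index ≤ 1440 * 2791 := Nat.mul_le_mul h2 h1
  omega

theorem a6_false (h : EPT A Γ) (hs : HasSoc A (alternatingGroup (Fin 6))) (hQ : 4680000 ≤ Nat.card Q) : False := by
  have := card_lt_six h hs
  omega

end Cfsg.Agent.H998.EPA
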