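import Cfsg.Agent.H998.EPA.SixSub
import Cfsg.Agent.H582.Act

/-!
# S3499-IV-L A6: the admissible subgroups of `A₆` (helper998)
-/

set_option autoImplicit false

namespace Cfsg.Agent.H998.EPA

open Subgroup Equiv Cfsg.Agent.H417.EP

/-- an elementary abelian subgroup with normaliser `K` -/
structure El (K : Subgroup L6) (p : ℕ) (V : Subgroup L6) : Prop where
  pr : p.Prime
  le : V ≤ K
  ne : V ≠ ⊥
  pow : ∀ v ∈ V, v ^ p = 1
  comm : ∀ a ∈ V, ∀ b ∈ V, a * b = b * a
  nrm : ∀ g : L6, (∀ x ∈ V, g * x * g⁻¹ ∈ V) → g ∈ K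
  inv : ∀ g ∈ K, ∀ x ∈ V, g * x * g⁻¹ ∈ V

theorem exists_el {K : Subgroup L6} (hK : Adm K) (hs : Group.IsSolvable K) : ∃ p V, El K p V := by
  have hnt : Nontrivial K := (Subgroup.nontrivial_iff_ne_bot K).2 hK.ne_bot
  obtain ⟨p, hp, -, V, hVc, hVb, hVm, hVp⟩ := Cfsg.Agent.H582.exists_char_elemAb K hs
  have hmem : ∀ y : K, (y : L6) ∈ V.map K.subtype ↔ y ∈ V := fun y =>
    Subgroup.mem_map_iff_mem K.subtype_injective
  have hφ : ∀ φ : MulAut K, ∀ y ∈ V, φ y ∈ V := by
    intro φ y hy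
    have h1 := hVc.fixed φ
    have h2 : y ∈ V.comap φ.toMonoidHom := by rw [h1]; exact hy
    exact h2
  refine ⟨p, V.map K.subtype, hp, ?_, ?_, ?_, ?_, ?_, ?_⟩
  · rintro _ ⟨v, -, rfl⟩
    exact v.2
  · rw [Ne, Subgroup.map_eq_bot_iff_of_injective _ K.subtype_injective]
    exact hVb
  · rintro _ ⟨v, hv, rfl⟩
    exact congrArg Subtype.val (hVp v hv)
  · rintro _ ⟨v, hv, rfl⟩ _ ⟨w, hw, rfl⟩
    exact congrArg Subtype.val (hVm v hv w hw)
  · refine hK.norm _ ?_ ?_ ?_
    · rintro _ ⟨v, -, rfl⟩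
      exact v.2
    · rw [Ne, Subgroup.map_eq_bot_iff_of_injective _ K.subtype_injective]
      exact hVb
    · intro φ y hy
      exact (hmem _).2 (hφ φ y ((hmem y).1 hy))
  · rintro g hg _ ⟨v, hv, rfl⟩
    have h1 := hφ (MulAut.conj ⟨g, hg⟩) v hv
    exact ⟨_, h1, rfl⟩

/-- the centraliser of an element -/
def cen (u : L6) : Subgroup L6 where
  carrier := {v | u * v = v * u}
  one_mem' := by simp
  mul_mem' := by
    intro a b ha hb
    have ha' : u * a = a * u := ha
    have hb' : u * b = b * u := hb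
    show u * (a * b) = a * b * u
    rw [← mul_assoc, ha', mul_assoc, hb', mul_assoc]
  inv_mem' := by
    intro a ha
    have ha' : u * a = a * u := ha
    show u * a⁻¹ = a⁻¹ * u
    rw [eq_inv_mul_iff_mul_eq, ← mul_assoc, ← ha', mul_inv_cancel_right]

theorem mem_cen {u v : L6} : v ∈ cen u ↔ u * v = v * u := Iff.rfl

theorem card_cen {u : L6} {n : ℕ} (h : Nat.card {v : L6 // u * v = v * u} = n) : Nat.card (cen u) = n := h

namespace El

variable {K : Subgroup L6} {p : ℕ} {V : Subgroup L6} (h : El K p V)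

include h

theorem exists_ne : ∃ u ∈ V, u ≠ 1 := by
  obtain ⟨⟨u, hu⟩, h1⟩ := Subgroup.ne_bot_iff_exists_ne_one.1 h.ne
  exact ⟨u, hu, fun e => h1 (Subtype.ext e)⟩

theorem le_cen {u : L6} (hu : u ∈ V) : V ≤ cen u := fun v hv => h.comm u hu v hv

/-- `K` is the normaliser of `V` -/
theorem mem_iff {g : L6} : g ∈ K ↔ ∀ x ∈ V, g * x * g⁻¹ ∈ V := ⟨h.inv g, h.nrm g⟩

theorem p_cases : p = 2 ∨ p = 3 ∨ p = 5 := by
  obtain ⟨u, hu, hu1⟩ := h.exists_ne
  have h1 : orderOf u = p := by
    have := Fact.mk h.pr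
    exact orderOf_eq_prime (h.pow u hu) hu1
  have h2 : p ∣ 360 := by
    rw [← card_L6, ← h1]
    exact orderOf_dvd_natCard u
  have h3 : p ∈ Nat.primeFactors 360 := Nat.mem_primeFactors.2 ⟨h.pr, h2, by norm_num⟩
  have h4 : Nat.primeFactors 360 = {2, 3, 5} := by decide +kernel
  rw [h4] at h3
  simpa using h3

/-- `V` has order 2 or 4 if `p = 2` -/
theorem card_cases (hp : p = 2) {u : L6} (hu : u ∈ V) (hu1 : u ≠ 1) : Nat.card V = 2 ∨ Nat.card V = 4 := by
  subst hp
  have hu2 : u ^ 2 = 1 := h.pow u hu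
  obtain ⟨h8, h5⟩ := two_facts hu2 hu1
  have hc := card_cen h8
  have hle := h.le_cen hu
  have hdvd : Nat.card V ∣ 8 := by rw [← hc]; exact Subgroup.card_dvd_of_le hle
  have hne8 : Nat.card V ≠ 8 := by
    intro e
    have h1 : V = cen u := Subgroup.eq_of_le_of_card_ge hle (by rw [e, hc])
    have h2 : Nat.card {v : L6 // v * v = 1 ∧ u * v = v * u ∧ v ≠ 1} = 7 := by
      have h3 : Nat.card {v : L6 // v * v = 1 ∧ u * v = v * u ∧ v ≠ 1} = Nat.card {v : V // v ≠ 1} := by
        refine Nat.card_congr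
          { toFun := fun v => ⟨⟨v.1, by rw [h1]; exact v.2.2.1⟩, fun e => v.2.2.2 (congrArg Subtype.val e)⟩
            invFun := fun v => ⟨v.1.1, by rw [← pow_two]; exact h.pow _ v.1.2, hle v.1.2, fun e => v.2 (Subtype.ext e)⟩
            left_inv := fun _ => rfl
            right_inv := fun _ => rfl }
      rw [h3]
      classical
      have : Fintype V := Fintype.ofFinite V
      rw [Nat.card_eq_fintype_card, Fintype.card_subtype_compl, Fintype.card_subtype_eq,
        ← Nat.card_eq_fintype_card, e]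
    omega
  have hpos : Nat.card V ≠ 1 := fun e => h.ne (Subgroup.card_eq_one.1 e)
  have h3 : Nat.card V ∈ Nat.divisors 8 := Nat.mem_divisors.2 ⟨hdvd, by norm_num⟩
  have h4 : Nat.divisors 8 = {1, 2, 4, 8} := by decide +kernel
  rw [h4] at h3
  simp only [Finset.mem_insert, Finset.mem_singleton] at h3
  omega

theorem card_zpowers {u : L6} (hu : u ∈ V) (hu1 : u ≠ 1) : Nat.card (zpowers u) = p := by
  have := Fact.mk h.pr
  rw [Nat.card_zpowers]
  exact orderOf_eq_prime (h.pow u hu) hu1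

theorem eq_zpowers (hc : Nat.card V = p) {u : L6} (hu : u ∈ V) (hu1 : u ≠ 1) : V = zpowers u :=
  (Subgroup.eq_of_le_of_card_ge (Subgroup.zpowers_le.2 hu) (by rw [hc, h.card_zpowers hu hu1])).symm

/-- `V` is `⟨u⟩` or the centraliser of `u` if this has order `p²` -/
theorem eq_or {u : L6} (hu : u ∈ V) (hu1 : u ≠ 1) (hc : Nat.card (cen u) ∣ p ^ 2) : V = zpowers u ∨ V = cen u := by
  have hle := h.le_cen hu
  obtain ⟨k, hk, hVk⟩ := (Nat.dvd_prime_pow h.pr).1 ((Subgroup.card_dvd_of_le hle).trans hc)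
  have hk0 : k ≠ 0 := by
    rintro rfl
    exact h.ne (Subgroup.card_eq_one.1 (by rw [hVk, pow_zero]))
  have hk' : k = 1 ∨ k = 2 := by omega
  rcases hk' with rfl | rfl
  · left
    exact h.eq_zpowers (by rw [hVk, pow_one]) hu hu1
  · right
    exact Subgroup.eq_of_le_of_card_ge hle (by rw [hVk]; exact Nat.le_of_dvd (pow_pos h.pr.pos 2) hc)

/-- the centraliser of an involution of `V` is contained in `K` -/
theorem cen_le (hp : p = 2) {u : L6} (hu : u ∈ V) (hu1 : u ≠ 1) : cen u ≤ K := by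
  have hcases := h.card_cases hp hu hu1
  subst hp
  have hu2 : u ^ 2 = 1 := h.pow u hu
  obtain ⟨h8, h5⟩ := two_facts hu2 hu1
  have hc := card_cen h8
  have hle := h.le_cen hu
  intro g hg
  refine h.nrm g fun x hx => ?_
  rcases hcases with h2 | h4
  · have h5 : x = 1 ∨ x = u := by
      have h6 := h.eq_zpowers h2 hu hu1
      rw [h6, Subgroup.mem_zpowers_iff] at hx
      obtain ⟨k, rfl⟩ := hx
      rcases Int.even_or_odd' k with ⟨m, rfl | rfl⟩
      · left
        rw [zpow_mul, zpow_ofNat, hu2, one_zpow]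
      · right
        rw [zpow_add, zpow_mul, zpow_ofNat, hu2, one_zpow, one_mul, zpow_one]
    rcases h5 with rfl | rfl
    · rw [mul_one, mul_inv_cancel]; exact V.one_mem
    · have hg' : x * g = g * x := hg
      rw [← hg', mul_inv_cancel_right]
      exact hu
  · have h5 : (V.subgroupOf (cen u)).index = 2 := by
      have h6 := (V.subgroupOf (cen u)).card_mul_index
      rw [Nat.card_congr (Subgroup.subgroupOfEquivOfLe hle).toEquiv, h4, hc] at h6
      omega
    have h6 : (V.subgroupOf (cen u)).Normal := Subgroup.normal_of_index_eq_two h5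
    have h7 := h6.conj_mem ⟨x, hle hx⟩ hx ⟨g, hg⟩
    exact h7

/-- an involution inverting `u` lies in `K` -/
theorem inv_mem {u : L6} (hV : V = zpowers u ∨ V = cen u) {t : L6} (ht : t * t = 1) (htu : t * u * t = u⁻¹) : t ∈ K := by
  have ht' : t⁻¹ = t := inv_eq_of_mul_eq_one_left ht
  refine h.nrm t fun x hx => ?_
  rcases hV with hV | hV
  · rw [hV, Subgroup.mem_zpowers_iff] at hx
    obtain ⟨k, rfl⟩ := hx
    rw [hV, Subgroup.mem_zpowers_iff]
    refine ⟨-k, ?_⟩
    rw [← conj_zpow, ht', htu, inv_zpow, zpow_neg]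
  · rw [hV] at hx ⊢
    rw [mem_cen, ht'] at *
    have h1 : u * t = t * u⁻¹ := by rw [← htu, ← mul_assoc, ← mul_assoc, ht, one_mul]
    have h2 : u⁻¹ * x = x * u⁻¹ := by rw [inv_mul_eq_iff_eq_mul, ← mul_assoc, hx, mul_inv_cancel_right]
    have h3 : t * u = u⁻¹ * t := by rw [← htu, mul_assoc, ht, mul_one]
    calc u * (t * x * t) = (u * t) * (x * t) := by group
      _ = t * (u⁻¹ * x) * t := by rw [h1]; group
      _ = t * x * (u⁻¹ * t) := by rw [h2]; group
      _ = t * x * t * u := by rw [← h3]; group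

end El

open Classical in
/-- an admissible solvable subgroup contains at least five involutions -/
theorem five_sol {K : Subgroup L6} (hK : Adm K) (hs : Group.IsSolvable K) :
    5 ≤ ∑ t : L6, if t ∈ K then wt t else 0 := by
  obtain ⟨p, V, h⟩ := exists_el hK hs
  obtain ⟨u, hu, hu1⟩ := h.exists_ne
  rcases h.p_cases with hp | hp | hp
  · have hc := h.cen_le hp hu hu1
    subst hp
    refine le_sum (P := fun v => v * v = 1 ∧ u * v = v * u ∧ v ≠ 1) ?_ (two_facts (h.pow u hu) hu1).2.ge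
    rintro t ⟨h1, h2, h3⟩
    exact ⟨hc h2, by rw [pow_two, h1], h3⟩
  · subst hp
    obtain ⟨h9, h9'⟩ := three_facts (h.pow u hu) hu1
    have hV := h.eq_or hu hu1 (by rw [card_cen h9]; norm_num)
    refine le_sum (P := fun v => v * v = 1 ∧ v * u * v = u⁻¹ ∧ v ≠ 1) ?_ (by rw [h9']; norm_num)
    rintro t ⟨h1, h2, h3⟩
    exact ⟨h.inv_mem hV h1 h2, by rw [pow_two, h1], h3⟩
  · subst hp
    obtain ⟨h9, h9'⟩ := five_facts (h.pow u hu) hu1
    have hV := h.eq_or hu hu1 (by rw [card_cen h9]; norm_num)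
    refine le_sum (P := fun v => v * v = 1 ∧ v * u * v = u⁻¹ ∧ v ≠ 1) ?_ (by rw [h9'])
    rintro t ⟨h1, h2, h3⟩
    exact ⟨h.inv_mem hV h1 h2, by rw [pow_two, h1], h3⟩

/-- a non-solvable subgroup contains at least five involutions -/
theorem five_non {K : Subgroup L6} (hs : ¬ Group.IsSolvable K) :
    5 ≤ Nat.card {t : L6 // t ∈ K ∧ t ^ 2 = 1 ∧ t ≠ 1} := by
  classical
  have h60 : 60 ≤ Nat.card K := by
    by_contra hc
    exact hs (Cfsg.Agent.BpAlt.solvable_of_lt _ K rfl (not_le.1 hc))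
  have hdvd : Nat.card K ∣ 360 := by rw [← card_L6]; exact Subgroup.card_subgroup_dvd_card K
  have h2 : 2 ∣ Nat.card K := by
    obtain ⟨m, hm⟩ := hdvd
    have hm6 : m ≤ 6 := by nlinarith
    have hm0 : m ≠ 0 := by rintro rfl; omega
    interval_cases m <;> omega
  have := Fact.mk Nat.prime_two
  obtain ⟨⟨t, ht⟩, hot⟩ := exists_prime_orderOf_dvd_card' 2 h2
  have hot' : orderOf t = 2 := (Subgroup.orderOf_mk t ht).symm.trans hot
  have ht2 : t ^ 2 = 1 := by rw [← hot']; exact pow_orderOf_eq_one t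
  have ht1 : t ≠ 1 := by rintro rfl; rw [orderOf_one] at hot'; omega
  have h8 := card_cen (two_facts ht2 ht1).1
  have hFK : Fintype K := Fintype.ofFinite K
  let f : K → L6 := fun g => (g : L6) * t * (g : L6)⁻¹
  have h3 : (Finset.univ : Finset K).card ≤ 8 * ((Finset.univ : Finset K).image f).card := by
    refine Finset.card_le_mul_card_image _ 8 ?_
    intro b hb
    obtain ⟨g0, -, rfl⟩ := Finset.mem_image.1 hb
    rw [← h8, Nat.card_eq_fintype_card, ← Finset.card_univ]
    have hmem : ∀ g : K, f g = f g0 → (g0 : L6)⁻¹ * g ∈ cen t := by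
      intro g hg
      rw [mem_cen]
      have hg' : (g : L6) * t * (g : L6)⁻¹ = (g0 : L6) * t * (g0 : L6)⁻¹ := hg
      calc t * ((g0 : L6)⁻¹ * g) = (g0 : L6)⁻¹ * ((g0 : L6) * t * (g0 : L6)⁻¹) * g := by group
        _ = (g0 : L6)⁻¹ * g * t := by rw [← hg']; group
    refine Finset.card_le_card_of_injOn (fun g => if hg : f g = f g0 then ⟨_, hmem g hg⟩ else 1) ?_ ?_
    · intro g _
      exact Finset.mem_coe.2 (Finset.mem_univ _)
    · intro a ha b hb hab
      have ha' := (Finset.mem_filter.1 (Finset.mem_coe.1 ha)).2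
      have hb' := (Finset.mem_filter.1 (Finset.mem_coe.1 hb)).2
      simp only [dif_pos ha', dif_pos hb'] at hab
      have h4 := congrArg Subtype.val hab
      exact Subtype.ext (mul_left_cancel h4)
  rw [Finset.card_univ, ← Nat.card_eq_fintype_card] at h3
  have h4 : ((Finset.univ : Finset K).image f).card ≤ Nat.card {t : L6 // t ∈ K ∧ t ^ 2 = 1 ∧ t ≠ 1} := by
    rw [Nat.card_eq_fintype_card, Fintype.card_subtype]
    apply Finset.card_le_card
    intro x hx
    obtain ⟨g, -, rfl⟩ := Finset.mem_image.1 hx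
    rw [Finset.mem_filter]
    refine ⟨Finset.mem_univ _, K.mul_mem (K.mul_mem g.2 ht) (K.inv_mem g.2), ?_, ?_⟩
    · show ((g : L6) * t * (g : L6)⁻¹) ^ 2 = 1
      rw [conj_pow, ht2, mul_one, mul_inv_cancel]
    · intro e
      apply ht1
      have e' : (g : L6) * t * (g : L6)⁻¹ = 1 := e
      rwa [mul_inv_eq_one, mul_eq_left] at e'
  omega

open Classical in
/-- **An admissible subgroup of `A₆` contains at least five involutions.** -/
theorem five_le {K : Subgroup L6} (hK : Adm K) : 5 ≤ ∑ t : L6, if t ∈ K then wt t else 0 := by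
  by_cases hs : Group.IsSolvable K
  · exact five_sol hK hs
  · exact le_sum (P := fun t => t ∈ K ∧ t ^ 2 = 1 ∧ t ≠ 1) (fun t ht => ht) (five_non hs)

/-- **An admissible subgroup of `A₆` contains at least five involutions.** -/
theorem five_le' {K : Subgroup L6} (hK : Adm K) : 5 ≤ Nat.card {l : L6 // l ∈ K ∧ orderOf l = 2} := by
  classical
  have h := five_le hK
  have h1 : ∀ t : L6, (if t ∈ K then wt t else 0) = if t ∈ K ∧ orderOf t = 2 then 1 else 0 := by
    intro t
    unfold wt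
    have h2 : (t ^ 2 = 1 ∧ t ≠ 1) ↔ orderOf t = 2 := by
      constructor
      · rintro ⟨a, b⟩
        have := Fact.mk Nat.prime_two
        exact orderOf_eq_prime a b
      · intro e
        refine ⟨by rw [← e]; exact pow_orderOf_eq_one t, ?_⟩
        rintro rfl
        rw [orderOf_one] at e
        omega
    by_cases h1 : t ∈ K
    · by_cases h3 : t ^ 2 = 1 ∧ t ≠ 1
      · rw [if_pos h1, if_pos h3, if_pos ⟨h1, h2.1 h3⟩]
      · rw [if_pos h1, if_neg h3, if_neg fun h => h3 (h2.2 h.2)]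
    · rw [if_neg h1, if_neg fun h => h1 h.1]
  have h3 : (∑ t : L6, if t ∈ K then wt t else 0) = Nat.card {l : L6 // l ∈ K ∧ orderOf l = 2} := by
    rw [Finset.sum_congr rfl fun t _ => h1 t, ← Finset.sum_filter, Finset.sum_const, smul_eq_mul, mul_one,
      Nat.card_eq_fintype_card, Fintype.card_subtype]
  rw [← h3]
  convert h

end Cfsg.Agent.H998.EPA
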