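import Cfsg.Agent.H998.EPA.SixAdm

/-!
# S3499-IV-L A6: the number of admissible subgroups of `A₆` (helper998)
-/

set_option autoImplicit false

namespace Cfsg.Agent.H998.EPA

open Subgroup Equiv Cfsg.Agent.H417.EP

/-- a function whose fibres have at least `n` elements -/
theorem fib {α β : Type*} [Finite α] (f : α → β) (n : ℕ) (hn : ∀ a, n ≤ Nat.card {x // f x = f a}) :
    n * (Set.range f).ncard ≤ Nat.card α := by
  classical
  have := Fintype.ofFinite α
  have h1 : n * ((Finset.univ : Finset α).image f).card ≤ (Finset.univ : Finset α).card := by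
    refine Finset.mul_card_image_le_card _ n ?_
    intro b hb
    obtain ⟨a, -, rfl⟩ := Finset.mem_image.1 hb
    refine (hn a).trans (le_of_eq ?_)
    rw [Nat.card_eq_fintype_card, Fintype.card_subtype]
  have h2 : (Set.range f).ncard = ((Finset.univ : Finset α).image f).card := by
    rw [← Set.ncard_coe_finset, Finset.coe_image, Finset.coe_univ, Set.image_univ]
  rw [h2, Nat.card_eq_fintype_card]
  exact h1

theorem half {α β : Type*} [Finite α] (f : α → β) (s : α → α) (hs : ∀ a, s a ≠ a) (hf : ∀ a, f (s a) = f a) :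
    2 * (Set.range f).ncard ≤ Nat.card α := by
  classical
  refine fib f 2 fun a => ?_
  have h1 : Function.Injective (fun b : Bool => (if b then ⟨a, rfl⟩ else ⟨s a, hf a⟩ : {x // f x = f a})) := by
    intro b c hbc
    cases b <;> cases c <;> simp_all
    exact absurd hbc.symm (hs a)
  have h2 := Nat.card_le_card_of_injective _ h1
  rwa [Nat.card_eq_fintype_card, Fintype.card_bool] at h2

open Classical in
/-- the normaliser as a function -/
noncomputable def F (V : Subgroup L6) : Subgroup L6 :=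
  if h : ∃ K : Subgroup L6, ∀ g, g ∈ K ↔ ∀ x ∈ V, g * x * g⁻¹ ∈ V then h.choose else ⊥

theorem El.eq_F {K V : Subgroup L6} {p : ℕ} (h : El K p V) : K = F V := by
  have hex : ∃ K : Subgroup L6, ∀ g, g ∈ K ↔ ∀ x ∈ V, g * x * g⁻¹ ∈ V := ⟨K, fun g => h.mem_iff⟩
  unfold F
  rw [dif_pos hex]
  ext g
  rw [h.mem_iff, hex.choose_spec g]

/-- the elements of order `p` -/
abbrev OP (p : ℕ) := {u : L6 // u ^ p = 1 ∧ u ≠ 1}

def OP.inv {p : ℕ} (u : OP p) : OP p := ⟨(u : L6)⁻¹, by
  refine ⟨by rw [inv_pow, u.2.1, inv_one], fun e => u.2.2 (inv_eq_one.1 e)⟩⟩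

theorem OP.inv_ne {p : ℕ} (hp : p.Prime) (hp2 : p ≠ 2) (u : OP p) : u.inv ≠ u := by
  intro e
  have h1 : (u : L6)⁻¹ = u := congrArg Subtype.val e
  have h2 : (u : L6) ^ 2 = 1 := by
    rw [pow_two]
    nth_rewrite 1 [← h1]
    exact inv_mul_cancel _
  have := Fact.mk hp
  have h3 : orderOf (u : L6) = p := orderOf_eq_prime u.2.1 u.2.2
  have h4 := orderOf_dvd_of_pow_eq_one h2
  rw [h3] at h4
  exact hp2 ((Nat.prime_dvd_prime_iff_eq hp Nat.prime_two).1 h4)

theorem cen_inv (u : L6) : cen u⁻¹ = cen u := by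
  ext v
  rw [mem_cen, mem_cen, inv_mul_eq_iff_eq_mul, ← mul_assoc, eq_mul_inv_iff_mul_eq, eq_comm]

theorem zp_half {p : ℕ} (hp : p.Prime) (hp2 : p ≠ 2) :
    2 * (Set.range fun u : OP p => F (zpowers (u : L6))).ncard ≤ Nat.card (OP p) :=
  half _ OP.inv (OP.inv_ne hp hp2) fun u => congrArg F (Subgroup.zpowers_inv (g := (u : L6)))

theorem cen_half {p : ℕ} (hp : p.Prime) (hp2 : p ≠ 2) :
    2 * (Set.range fun u : OP p => F (cen (u : L6))).ncard ≤ Nat.card (OP p) :=
  half _ OP.inv (OP.inv_ne hp hp2) fun u => congrArg F (cen_inv (u : L6))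

/-- the ordered pairs generating a four-group -/
abbrev OQ := Σ u : OP 2, {v : L6 // (v * v = 1 ∧ (u : L6) * v = v * u ∧ v ≠ 1) ∧ v ≠ u}

theorem card_OQ : Nat.card OQ = 180 := by
  classical
  have h1 : ∀ u : OP 2, Nat.card {v : L6 // (v * v = 1 ∧ (u : L6) * v = v * u ∧ v ≠ 1) ∧ v ≠ u} = 4 := by
    intro u
    have h5 := (two_facts u.2.1 u.2.2).2
    rw [Nat.card_eq_fintype_card, Fintype.card_subtype] at h5 ⊢
    have h2 : (Finset.univ.filter fun v : L6 => (v * v = 1 ∧ (u : L6) * v = v * u ∧ v ≠ 1) ∧ v ≠ u) =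
        (Finset.univ.filter fun v : L6 => v * v = 1 ∧ (u : L6) * v = v * u ∧ v ≠ 1).erase u := by
      ext v
      simp only [Finset.mem_filter, Finset.mem_erase, Finset.mem_univ, true_and]
      tauto
    rw [h2, Finset.card_erase_of_mem, h5]
    rw [Finset.mem_filter]
    exact ⟨Finset.mem_univ _, by rw [← pow_two]; exact u.2.1, rfl, u.2.2⟩
  rw [Nat.card_sigma, Finset.sum_congr rfl fun u _ => h1 u, Finset.sum_const, smul_eq_mul, Finset.card_univ,
    ← Nat.card_eq_fintype_card, card_two]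

def OQ.sw (q : OQ) : OQ := ⟨q.1, ⟨(q.1 : L6) * q.2.1, by
  obtain ⟨⟨u, hu, hu1⟩, ⟨v, ⟨hv, huv, hv1⟩, hvu⟩⟩ := q
  have huv' : u * v = v * u := huv
  have huu : u * u = 1 := by rw [← pow_two]; exact hu
  refine ⟨⟨?_, ?_, ?_⟩, ?_⟩
  · show u * v * (u * v) = 1
    calc u * v * (u * v) = u * (v * u) * v := by group
      _ = u * (u * v) * v := by rw [huv']
      _ = u * u * (v * v) := by group
      _ = 1 := by rw [huu, hv, one_mul]
  · show u * (u * v) = u * v * u
    rw [mul_assoc, huv']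
  · show u * v ≠ 1
    intro e
    apply hvu
    show v = u
    rw [mul_eq_one_iff_eq_inv] at e
    rw [e] at huu
    rw [e, eq_comm, inv_eq_of_mul_eq_one_left hv]
  · show u * v ≠ u
    rw [Ne, mul_eq_left]
    exact hv1⟩⟩

theorem OQ.sw_ne (q : OQ) : q.sw ≠ q := by
  obtain ⟨⟨u, hu, hu1⟩, ⟨v, ⟨hv, huv, hv1⟩, hvu⟩⟩ := q
  intro e
  have h1 := congrArg (fun q : OQ => (q.2.1 : L6)) e
  have h2 : u * v = v := h1
  exact hu1 (mul_eq_right.1 h2)

theorem oq_half : 2 * (Set.range fun q : OQ => F (zpowers (q.1 : L6) ⊔ zpowers q.2.1)).ncard ≤ 180 := by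
  rw [← card_OQ]
  refine half _ OQ.sw OQ.sw_ne fun q => congrArg F ?_
  show zpowers (q.1 : L6) ⊔ zpowers ((q.1 : L6) * q.2.1) = zpowers (q.1 : L6) ⊔ zpowers q.2.1
  have hu1 : (q.1 : L6) ∈ zpowers (q.1 : L6) ⊔ zpowers ((q.1 : L6) * q.2.1) :=
    (le_sup_left : zpowers (q.1 : L6) ≤ _) (Subgroup.mem_zpowers _)
  have hu2 : (q.1 : L6) ∈ zpowers (q.1 : L6) ⊔ zpowers q.2.1 :=
    (le_sup_left : zpowers (q.1 : L6) ≤ _) (Subgroup.mem_zpowers _)
  have hv1 : (q.1 : L6) * q.2.1 ∈ zpowers (q.1 : L6) ⊔ zpowers ((q.1 : L6) * q.2.1) :=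
    (le_sup_right : zpowers ((q.1 : L6) * q.2.1) ≤ _) (Subgroup.mem_zpowers _)
  have hv2 : q.2.1 ∈ zpowers (q.1 : L6) ⊔ zpowers q.2.1 :=
    (le_sup_right : zpowers q.2.1 ≤ _) (Subgroup.mem_zpowers _)
  apply le_antisymm
  · refine sup_le le_sup_left (Subgroup.zpowers_le.2 (Subgroup.mul_mem _ hu2 hv2))
  · refine sup_le le_sup_left (Subgroup.zpowers_le.2 ?_)
    have h := Subgroup.mul_mem _ (Subgroup.inv_mem _ hu1) hv1
    rwa [inv_mul_cancel_left] at h

theorem two_mem {K V : Subgroup L6} (h : El K 2 V) :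
    K ∈ (Set.range fun u : OP 2 => F (zpowers (u : L6))) ∪ Set.range fun q : OQ => F (zpowers (q.1 : L6) ⊔ zpowers q.2.1) := by
  obtain ⟨u, hu, hu1⟩ := h.exists_ne
  rcases h.card_cases rfl hu hu1 with h2 | h4
  · left
    exact ⟨⟨u, h.pow u hu, hu1⟩, (h.eq_F.trans (congrArg F (h.eq_zpowers h2 hu hu1))).symm⟩
  · right
    have hz := h.card_zpowers hu hu1
    have hle : zpowers u ≤ V := Subgroup.zpowers_le.2 hu
    obtain ⟨v, hv, hvu⟩ : ∃ v ∈ V, v ∉ zpowers u := by
      by_contra hcon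
      push Not at hcon
      have h1 := Subgroup.card_le_of_le (show V ≤ zpowers u from hcon)
      omega
    have hv1 : v ≠ 1 := by rintro rfl; exact hvu (Subgroup.one_mem _)
    have hvu' : v ≠ u := by rintro rfl; exact hvu (Subgroup.mem_zpowers _)
    refine ⟨⟨⟨u, h.pow u hu, hu1⟩, ⟨v, ⟨?_, ?_, hv1⟩, hvu'⟩⟩, ?_⟩
    · rw [← pow_two]; exact h.pow v hv
    · exact h.comm u hu v hv
    · refine Eq.trans (congrArg F ?_) h.eq_F.symm
      show zpowers u ⊔ zpowers v = V
      have hle2 : zpowers u ⊔ zpowers v ≤ V := sup_le hle (Subgroup.zpowers_le.2 hv)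
      refine Subgroup.eq_of_le_of_card_ge hle2 ?_
      rw [h4]
      have h5 : Nat.card (zpowers u ⊔ zpowers v : Subgroup L6) ∣ 4 := by rw [← h4]; exact Subgroup.card_dvd_of_le hle2
      have h6 : 2 ∣ Nat.card (zpowers u ⊔ zpowers v : Subgroup L6) := by
        rw [← hz]; exact Subgroup.card_dvd_of_le le_sup_left
      have h7 : Nat.card (zpowers u ⊔ zpowers v : Subgroup L6) ≠ 2 := by
        intro e
        have h8 : zpowers u = zpowers u ⊔ zpowers v := Subgroup.eq_of_le_of_card_ge le_sup_left (by rw [e, hz])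
        apply hvu
        rw [h8]
        exact (le_sup_right : zpowers v ≤ _) (Subgroup.mem_zpowers _)
      have h9 : 0 < Nat.card (zpowers u ⊔ zpowers v : Subgroup L6) := Nat.card_pos
      have h10 := Nat.le_of_dvd (by norm_num) h5
      obtain ⟨k, hk⟩ := h6
      obtain ⟨l, hl⟩ := h5
      rw [hk] at hl h7 h9 h10 ⊢
      have hk2 : k ≤ 2 := by omega
      interval_cases k <;> omega

theorem three_mem {K V : Subgroup L6} (h : El K 3 V) :
    K ∈ (Set.range fun u : OP 3 => F (zpowers (u : L6))) ∪ Set.range fun u : OP 3 => F (cen (u : L6)) := by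
  obtain ⟨u, hu, hu1⟩ := h.exists_ne
  obtain ⟨h9, h9'⟩ := three_facts (h.pow u hu) hu1
  rcases h.eq_or hu hu1 (by rw [card_cen h9]; norm_num) with hV | hV
  · left
    exact ⟨⟨u, h.pow u hu, hu1⟩, (h.eq_F.trans (congrArg F hV)).symm⟩
  · right
    exact ⟨⟨u, h.pow u hu, hu1⟩, (h.eq_F.trans (congrArg F hV)).symm⟩

theorem five_mem {K V : Subgroup L6} (h : El K 5 V) :
    K ∈ (Set.range fun u : OP 5 => F (zpowers (u : L6))) := by
  obtain ⟨u, hu, hu1⟩ := h.exists_ne
  have h9 := (five_facts (h.pow u hu) hu1).1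
  have hz := h.card_zpowers hu hu1
  have h1 : V = zpowers u := by
    refine (Subgroup.eq_of_le_of_card_ge (Subgroup.zpowers_le.2 hu) ?_).symm
    rw [hz, ← card_cen h9]
    exact Subgroup.card_le_of_le (h.le_cen hu)
  exact ⟨⟨u, h.pow u hu, hu1⟩, (h.eq_F.trans (congrArg F h1)).symm⟩

/-! ### subgroups of index 6 -/

/-- the stabiliser of 0 -/
def st0 : Subgroup L6 where
  carrier := {v | (v : Perm (Fin 6)) 0 = 0}
  one_mem' := rfl
  mul_mem' := by
    intro a b ha hb
    have ha' : (a : Perm (Fin 6)) 0 = 0 := ha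
    have hb' : (b : Perm (Fin 6)) 0 = 0 := hb
    show ((a : Perm (Fin 6)) * (b : Perm (Fin 6))) 0 = 0
    rw [Perm.mul_apply, hb', ha']
  inv_mem' := by
    intro a ha
    have ha' : (a : Perm (Fin 6)) 0 = 0 := ha
    show ((a : Perm (Fin 6))⁻¹) 0 = 0
    rw [Perm.inv_eq_iff_eq, ha']

theorem dec_st : (Finset.univ.filter fun v : Perm (Fin 6) => v 0 = 0 ∧ Perm.sign v = 1).card = 60 := by
  decide +kernel

theorem card_st0 : Nat.card st0 = 60 := by
  rw [← dec_st, ← card_sub fun v => v 0 = 0]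
  rfl

theorem exists_aut {K : Subgroup L6} (hK : K.index = 6) : ∃ φ : MulAut L6, st0.comap φ.toMonoidHom = K := by
  classical
  have hc : Nat.card (L6 ⧸ K) = 6 := hK
  have hKt : K ≠ ⊤ := by rintro rfl; rw [Subgroup.index_top] at hK; omega
  have : Fintype (L6 ⧸ K) := Fintype.ofFinite _
  let β0 : (L6 ⧸ K) ≃ Fin 6 := Finite.equivFinOfCardEq hc
  let β : (L6 ⧸ K) ≃ Fin 6 := β0.trans (Equiv.swap (β0 ((1 : L6) : L6 ⧸ K)) 0)
  have hβ : β ((1 : L6) : L6 ⧸ K) = 0 := by
    show Equiv.swap (β0 ((1 : L6) : L6 ⧸ K)) 0 (β0 ((1 : L6) : L6 ⧸ K)) = 0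
    exact Equiv.swap_apply_left _ _
  let ρ : L6 →* Perm (Fin 6) := β.permCongrHom.toMonoidHom.comp (MulAction.toPermHom L6 (L6 ⧸ K))
  have hρ : ∀ g, ρ g 0 = 0 ↔ g ∈ K := by
    intro g
    have h1 : ρ g 0 = β (g • β.symm 0) := rfl
    have h2 : β.symm 0 = ((1 : L6) : L6 ⧸ K) := by rw [← hβ, Equiv.symm_apply_apply]
    rw [h1, h2, ← hβ, EmbeddingLike.apply_eq_iff_eq, MulAction.Quotient.smul_coe, smul_eq_mul, mul_one, eq_comm, QuotientGroup.eq,
      inv_one, one_mul]
  have hinj : Function.Injective ρ := by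
    rw [← MonoidHom.ker_eq_bot_iff]
    rcases (inferInstance : ρ.ker.Normal).eq_bot_or_eq_top with h | h
    · exact h
    · exfalso
      apply hKt
      rw [eq_top_iff]
      intro g _
      rw [← hρ]
      have h1 : g ∈ ρ.ker := by rw [h]; exact Subgroup.mem_top g
      rw [MonoidHom.mem_ker.1 h1]
      rfl
  have hr : ρ.range.index = 2 := by
    have h1 := ρ.range.card_mul_index
    have h2 : Nat.card ρ.range = 360 := by
      rw [← card_L6]
      exact (Nat.card_congr (MonoidHom.ofInjective hinj).toEquiv).symm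
    have h3 : Nat.card (Perm (Fin 6)) = 720 := by
      rw [Nat.card_perm, Nat.card_fin]
      rfl
    rw [h2, h3] at h1
    omega
  have hA : ρ.range = alternatingGroup (Fin 6) := Perm.eq_alternatingGroup_of_index_eq_two hr
  let φ : MulAut L6 := (MonoidHom.ofInjective hinj).trans (MulEquiv.subgroupCongr hA)
  refine ⟨φ, ?_⟩
  ext g
  rw [Subgroup.mem_comap, ← hρ]
  rfl

theorem aut_count : 60 * (Set.range fun φ : MulAut L6 => st0.comap φ.toMonoidHom).ncard ≤ 1440 := by
  rw [← Cfsg.Agent.H824.ProdLem.card_aut_a6]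
  refine fib _ 60 fun φ => ?_
  rw [← card_st0]
  refine Nat.card_le_card_of_injective (fun s : st0 => ⟨MulAut.conj (s : L6) * φ, ?_⟩) ?_
  · ext g
    show (s : L6) * φ g * (s : L6)⁻¹ ∈ st0 ↔ φ g ∈ st0
    constructor
    · intro h
      have h1 := st0.mul_mem (st0.mul_mem (st0.inv_mem s.2) h) s.2
      have h2 : (s : L6)⁻¹ * ((s : L6) * φ g * (s : L6)⁻¹) * (s : L6) = φ g := by group
      rwa [h2] at h1
    · intro h
      exact st0.mul_mem (st0.mul_mem s.2 h) (st0.inv_mem s.2)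
  · intro a b hab
    have h1 : MulAut.conj (a : L6) * φ = MulAut.conj (b : L6) * φ := congrArg Subtype.val hab
    have h2 : MulAut.conj (a : L6) = MulAut.conj (b : L6) := mul_right_cancel h1
    apply Subtype.ext
    have h3 : (b : L6)⁻¹ * a ∈ center L6 := by
      rw [Subgroup.mem_center_iff]
      intro g
      have h4 := DFunLike.congr_fun h2 g
      rw [MulAut.conj_apply, MulAut.conj_apply] at h4
      calc g * ((b : L6)⁻¹ * a) = (b : L6)⁻¹ * ((b : L6) * g * (b : L6)⁻¹) * a := by group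
        _ = (b : L6)⁻¹ * a * g := by rw [← h4]; group
    have h5 : center L6 = ⊥ := by
      rcases (inferInstance : (center L6).Normal).eq_bot_or_eq_top with h | h
      · exact h
      · exfalso
        obtain ⟨x, hx⟩ : ∃ x : L6, x ^ 2 = 1 ∧ x ≠ 1 := by
          have h6 : 0 < Nat.card {u : L6 // u ^ 2 = 1 ∧ u ≠ 1} := by rw [card_two]; norm_num
          obtain ⟨⟨x, hx⟩⟩ := (Nat.card_pos_iff.1 h6).1
          exact ⟨x, hx⟩
        have h7 := (two_facts hx.1 hx.2).1
        have h8 : cen x = ⊤ := by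
          rw [eq_top_iff]
          intro g _
          rw [mem_cen]
          have h9 : g ∈ center L6 := by rw [h]; exact Subgroup.mem_top g
          exact Subgroup.mem_center_iff.1 h9 x
        have h9 := card_cen h7
        rw [h8, Subgroup.card_top, card_L6] at h9
        omega
    rw [h5, Subgroup.mem_bot, inv_mul_eq_one] at h3
    exact h3.symm

theorem non_mem {K : Subgroup L6} (hK : Adm K) (hs : ¬ Group.IsSolvable K) :
    K ∈ Set.range fun φ : MulAut L6 => st0.comap φ.toMonoidHom := by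
  have h60 : 60 ≤ Nat.card K := by
    by_contra hc
    exact hs (Cfsg.Agent.BpAlt.solvable_of_lt _ K rfl (not_le.1 hc))
  have h1 := Cfsg.Agent.BpAlt.card_le_factorial hK.ne_top
  rw [card_L6] at h1
  have h2 := K.card_mul_index
  rw [card_L6] at h2
  apply exists_aut
  have h3 : K.index ≤ 6 := by nlinarith
  have h4 : 5 < K.index := by
    by_contra hc
    have h5 := Nat.factorial_le (not_lt.1 hc)
    have h6 : Nat.factorial 5 = 120 := by decide
    omega
  omega

/-- **There are at most 311 admissible subgroups of `A₆`.** -/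
theorem ncard_adm : {K : Subgroup L6 | Adm K}.ncard ≤ 311 := by
  set R2 := Set.range fun u : OP 2 => F (zpowers (u : L6)) with hR2
  set R4 := Set.range fun q : OQ => F (zpowers (q.1 : L6) ⊔ zpowers q.2.1) with hR4
  set R3 := Set.range fun u : OP 3 => F (zpowers (u : L6)) with hR3
  set R9 := Set.range fun u : OP 3 => F (cen (u : L6)) with hR9
  set R5 := Set.range fun u : OP 5 => F (zpowers (u : L6)) with hR5
  set RN := Set.range fun φ : MulAut L6 => st0.comap φ.toMonoidHom with hRN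
  have hsub : {K : Subgroup L6 | Adm K} ⊆ ((R2 ∪ R4) ∪ (R3 ∪ R9)) ∪ (R5 ∪ RN) := by
    intro K hK
    by_cases hs : Group.IsSolvable K
    · obtain ⟨p, V, h⟩ := exists_el hK hs
      rcases h.p_cases with rfl | rfl | rfl
      · exact Or.inl (Or.inl (two_mem h))
      · exact Or.inl (Or.inr (three_mem h))
      · exact Or.inr (Or.inl (five_mem h))
    · exact Or.inr (Or.inr (non_mem hK hs))
  have h2 : R2.ncard ≤ 45 := by
    rw [← card_two, hR2, ← Set.image_univ]
    refine (Set.ncard_image_le (Set.toFinite _)).trans ?_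
    rw [Set.ncard_univ]
  have h4 : 2 * R4.ncard ≤ 180 := oq_half
  have h3 : 2 * R3.ncard ≤ 80 := by
    have := zp_half Nat.prime_three (by norm_num)
    rwa [card_three] at this
  have h9 : 2 * R9.ncard ≤ 80 := by
    have := cen_half Nat.prime_three (by norm_num)
    rwa [card_three] at this
  have h5 : 2 * R5.ncard ≤ 144 := by
    have := zp_half (p := 5) (by norm_num) (by norm_num)
    rwa [card_five] at this
  have hN : 60 * RN.ncard ≤ 1440 := aut_count
  have hu := Set.ncard_le_ncard hsub (Set.toFinite _)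
  have e1 := Set.ncard_union_le (((R2 ∪ R4) ∪ (R3 ∪ R9))) (R5 ∪ RN)
  have e2 := Set.ncard_union_le (R2 ∪ R4) (R3 ∪ R9)
  have e3 := Set.ncard_union_le R5 RN
  have e4 := Set.ncard_union_le R2 R4
  have e5 := Set.ncard_union_le R3 R9
  omega

end Cfsg.Agent.H998.EPA
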