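import Mathlib.GroupTheory.SpecificGroups.Alternating.Simple
import Mathlib.GroupTheory.Perm.Fin
import Mathlib.GroupTheory.Perm.ConjAct
import Mathlib.GroupTheory.Perm.Cycle.Type
import Mathlib.Tactic

/-!
# S3499-IV-L A6: kernel checked facts on the even permutations of six points (helper998)
-/

set_option autoImplicit false

namespace Cfsg.Agent.H998.EPA

open Equiv Finset

def c2 : Perm (Fin 6) := swap 0 1 * swap 2 3
def c3 : Perm (Fin 6) := swap 0 1 * swap 1 2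
def c33 : Perm (Fin 6) := swap 0 1 * swap 1 2 * (swap 3 4 * swap 4 5)
def c5 : Perm (Fin 6) := swap 0 1 * swap 1 2 * (swap 2 3 * swap 3 4)

theorem dec_two0 :
    (univ.filter fun v : Perm (Fin 6) => c2 * v = v * c2 ∧ Perm.sign v = 1).card = 8 ∧
    (univ.filter fun v : Perm (Fin 6) => v * v = 1 ∧ c2 * v = v * c2 ∧ v ≠ 1 ∧ Perm.sign v = 1).card = 5 := by
  decide +kernel

theorem dec_three0 :
    (univ.filter fun v : Perm (Fin 6) => v * v = 1 ∧ v * c3 * v = c3⁻¹ ∧ v ≠ 1 ∧ Perm.sign v = 1).card = 9 := by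
  decide +kernel

theorem dec_three1 :
    (univ.filter fun v : Perm (Fin 6) => v * v = 1 ∧ v * c33 * v = c33⁻¹ ∧ v ≠ 1 ∧ Perm.sign v = 1).card = 9 := by
  decide +kernel

theorem dec_three0c :
    (univ.filter fun v : Perm (Fin 6) => c3 * v = v * c3 ∧ Perm.sign v = 1).card = 9 := by
  decide +kernel

theorem dec_three1c :
    (univ.filter fun v : Perm (Fin 6) => c33 * v = v * c33 ∧ Perm.sign v = 1).card = 9 := by
  decide +kernel

theorem dec_five0 :
    (univ.filter fun v : Perm (Fin 6) => c5 * v = v * c5 ∧ Perm.sign v = 1).card = 5 ∧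
    (univ.filter fun v : Perm (Fin 6) => v * v = 1 ∧ v * c5 * v = c5⁻¹ ∧ v ≠ 1 ∧ Perm.sign v = 1).card = 5 := by
  decide +kernel

theorem dec_card2 : (univ.filter fun u : Perm (Fin 6) => (u * u = 1 ∧ u ≠ 1) ∧ Perm.sign u = 1).card = 45 := by
  decide +kernel

theorem dec_card3 : (univ.filter fun u : Perm (Fin 6) => (u * u * u = 1 ∧ u ≠ 1) ∧ Perm.sign u = 1).card = 80 := by
  decide +kernel

theorem dec_card5 : (univ.filter fun u : Perm (Fin 6) => (u * u * u * u * u = 1 ∧ u ≠ 1) ∧ Perm.sign u = 1).card = 144 := by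
  decide +kernel

/-- conjugation invariance of cardinals -/
theorem card_tr {P : Perm (Fin 6) → Perm (Fin 6) → Prop} [∀ u, DecidablePred (P u)]
    (hP : ∀ σ u v, P (σ * u * σ⁻¹) (σ * v * σ⁻¹) ↔ P u v) (σ u : Perm (Fin 6)) :
    (univ.filter (P (σ * u * σ⁻¹))).card = (univ.filter (P u)).card := by
  symm
  refine Finset.card_bij (fun v _ => σ * v * σ⁻¹) ?_ ?_ ?_
  · intro v hv
    rw [mem_filter] at hv ⊢
    exact ⟨mem_univ _, (hP σ u v).2 hv.2⟩
  · intro a _ b _ hab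
    exact mul_left_cancel (mul_right_cancel hab)
  · intro b hb
    rw [mem_filter] at hb
    refine ⟨σ⁻¹ * b * σ, ?_, by group⟩
    rw [mem_filter]
    refine ⟨mem_univ _, (hP σ u _).1 ?_⟩
    have e : σ * (σ⁻¹ * b * σ) * σ⁻¹ = b := by group
    rw [e]
    exact hb.2

theorem sign_conj (σ v : Perm (Fin 6)) : Perm.sign (σ * v * σ⁻¹) = Perm.sign v := by
  rw [map_mul, map_mul, map_inv, mul_comm (Perm.sign σ), mul_assoc, mul_inv_cancel, mul_one]

theorem comm_conj (σ u v : Perm (Fin 6)) : (σ * u * σ⁻¹) * (σ * v * σ⁻¹) = (σ * v * σ⁻¹) * (σ * u * σ⁻¹) ↔ u * v = v * u := by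
  have e1 : (σ * u * σ⁻¹) * (σ * v * σ⁻¹) = σ * (u * v) * σ⁻¹ := by group
  have e2 : (σ * v * σ⁻¹) * (σ * u * σ⁻¹) = σ * (v * u) * σ⁻¹ := by group
  rw [e1, e2, mul_left_inj, mul_right_inj]

theorem one_conj (σ u : Perm (Fin 6)) : σ * u * σ⁻¹ = 1 ↔ u = 1 := by
  rw [mul_inv_eq_one, mul_eq_left]

theorem sq_conj (σ v : Perm (Fin 6)) : (σ * v * σ⁻¹) * (σ * v * σ⁻¹) = 1 ↔ v * v = 1 := by
  have e1 : (σ * v * σ⁻¹) * (σ * v * σ⁻¹) = σ * (v * v) * σ⁻¹ := by group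
  rw [e1, one_conj]

theorem inv_conj (σ u v : Perm (Fin 6)) : (σ * v * σ⁻¹) * (σ * u * σ⁻¹) * (σ * v * σ⁻¹) = (σ * u * σ⁻¹)⁻¹ ↔ v * u * v = u⁻¹ := by
  have e1 : (σ * v * σ⁻¹) * (σ * u * σ⁻¹) * (σ * v * σ⁻¹) = σ * (v * u * v) * σ⁻¹ := by group
  have e2 : (σ * u * σ⁻¹)⁻¹ = σ * u⁻¹ * σ⁻¹ := by group
  rw [e1, e2, mul_left_inj, mul_right_inj]

/-- the number of even centralising permutations -/
def nC (u : Perm (Fin 6)) : ℕ := (univ.filter fun v : Perm (Fin 6) => u * v = v * u ∧ Perm.sign v = 1).card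

/-- the number of even centralising involutions -/
def nI (u : Perm (Fin 6)) : ℕ := (univ.filter fun v : Perm (Fin 6) => v * v = 1 ∧ u * v = v * u ∧ v ≠ 1 ∧ Perm.sign v = 1).card

/-- the number of even inverting involutions -/
def nV (u : Perm (Fin 6)) : ℕ := (univ.filter fun v : Perm (Fin 6) => v * v = 1 ∧ v * u * v = u⁻¹ ∧ v ≠ 1 ∧ Perm.sign v = 1).card

theorem nC_conj (σ u : Perm (Fin 6)) : nC (σ * u * σ⁻¹) = nC u :=
  card_tr (P := fun u v => u * v = v * u ∧ Perm.sign v = 1) (fun σ u v => by rw [comm_conj, sign_conj]) σ u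

theorem nI_conj (σ u : Perm (Fin 6)) : nI (σ * u * σ⁻¹) = nI u :=
  card_tr (P := fun u v => v * v = 1 ∧ u * v = v * u ∧ v ≠ 1 ∧ Perm.sign v = 1)
    (fun σ u v => by rw [comm_conj, sign_conj, sq_conj, Ne, one_conj]) σ u

theorem nV_conj (σ u : Perm (Fin 6)) : nV (σ * u * σ⁻¹) = nV u :=
  card_tr (P := fun u v => v * v = 1 ∧ v * u * v = u⁻¹ ∧ v ≠ 1 ∧ Perm.sign v = 1)
    (fun σ u v => by rw [inv_conj, sign_conj, sq_conj, Ne, one_conj]) σ u

theorem ct2 : c2.cycleType = {2, 2} := by decide +kernel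
theorem ct3 : c3.cycleType = {3} := by decide +kernel
theorem ct33 : c33.cycleType = {3, 3} := by decide +kernel
theorem ct5 : c5.cycleType = {5} := by decide +kernel

theorem conj_of_ct {u c : Perm (Fin 6)} (h : u.cycleType = c.cycleType) : ∃ σ : Perm (Fin 6), u = σ * c * σ⁻¹ := by
  obtain ⟨σ, hσ⟩ := isConj_iff.1 (Perm.isConj_iff_cycleType_eq.2 h.symm)
  exact ⟨σ, hσ.symm⟩

/-- the cycle types of the even permutations of prime order -/
theorem ct_cases {u : Perm (Fin 6)} {p : ℕ} (hp : p.Prime) (h : orderOf u = p) (hs : Perm.sign u = 1) :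
    (p = 2 ∧ u.cycleType = {2, 2}) ∨ (p = 3 ∧ (u.cycleType = {3} ∨ u.cycleType = {3, 3})) ∨ (p = 5 ∧ u.cycleType = {5}) := by
  obtain ⟨n, hn⟩ := Perm.cycleType_prime_order (σ := u) (by rw [h]; exact hp)
  rw [h] at hn
  have h1 := Perm.sum_cycleType u
  have h2 : u.support.card ≤ 6 := by
    have := Finset.card_le_univ u.support
    simpa using this
  rw [hn, Multiset.sum_replicate, smul_eq_mul] at h1
  have h3 := Perm.sign_of_cycleType u
  rw [hs, hn, Multiset.sum_replicate, smul_eq_mul, Multiset.card_replicate] at h3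
  have hp2 := hp.two_le
  have h4 : (n + 1) * p ≤ 6 := by omega
  have hp6 : p ≤ 6 := by nlinarith
  interval_cases p
  · have hn2 : n ≤ 2 := by omega
    left
    interval_cases n
    · exfalso; revert h3; decide
    · exact ⟨rfl, by rw [hn]; rfl⟩
    · exfalso; revert h3; decide
  · have hn2 : n ≤ 1 := by omega
    right; left
    interval_cases n
    · exact ⟨rfl, Or.inl (by rw [hn]; rfl)⟩
    · exact ⟨rfl, Or.inr (by rw [hn]; rfl)⟩
  · exact absurd hp (by norm_num)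
  · have hn2 : n ≤ 0 := by omega
    right; right
    interval_cases n
    exact ⟨rfl, by rw [hn]; rfl⟩
  · exact absurd hp (by norm_num)

theorem dec_two {u : Perm (Fin 6)} (h : orderOf u = 2) (hs : Perm.sign u = 1) : nC u = 8 ∧ nI u = 5 := by
  rcases ct_cases Nat.prime_two h hs with ⟨-, h1⟩ | ⟨h1, -⟩ | ⟨h1, -⟩
  · obtain ⟨σ, rfl⟩ := conj_of_ct (h1.trans ct2.symm)
    rw [nC_conj, nI_conj]
    exact dec_two0
  · omega
  · omega

theorem dec_three {u : Perm (Fin 6)} (h : orderOf u = 3) (hs : Perm.sign u = 1) : nC u = 9 ∧ nV u = 9 := by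
  rcases ct_cases Nat.prime_three h hs with ⟨h1, -⟩ | ⟨-, h1 | h1⟩ | ⟨h1, -⟩
  · omega
  · obtain ⟨σ, rfl⟩ := conj_of_ct (h1.trans ct3.symm)
    rw [nC_conj, nV_conj]
    exact ⟨dec_three0c, dec_three0⟩
  · obtain ⟨σ, rfl⟩ := conj_of_ct (h1.trans ct33.symm)
    rw [nC_conj, nV_conj]
    exact ⟨dec_three1c, dec_three1⟩
  · omega

theorem dec_five {u : Perm (Fin 6)} (h : orderOf u = 5) (hs : Perm.sign u = 1) : nC u = 5 ∧ nV u = 5 := by
  rcases ct_cases (by norm_num) h hs with ⟨h1, -⟩ | ⟨h1, -⟩ | ⟨-, h1⟩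
  · omega
  · omega
  · obtain ⟨σ, rfl⟩ := conj_of_ct (h1.trans ct5.symm)
    rw [nC_conj, nV_conj]
    exact dec_five0

end Cfsg.Agent.H998.EPA
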