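import Cfsg.Agent.H417.EP.Base
import Cfsg.Agent.H998.EPA.SixDec
import Cfsg.Agent.H824.ProdLem
import Cfsg.Agent.BpAlt.Row

/-!
# S3499-IV-L A6: counting elements of `A₆` (helper998)
-/

set_option autoImplicit false

namespace Cfsg.Agent.H998.EPA

open Subgroup Equiv Cfsg.Agent.H417.EP

/-- `A₆` -/
abbrev L6 := alternatingGroup (Fin 6)

theorem card_L6 : Nat.card L6 = 360 := by
  have h := nat_card_alternatingGroup (α := Fin 6)
  rw [h, Nat.card_fin]
  rfl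

instance simple_L6 : IsSimpleGroup L6 := Cfsg.Agent.H824.ProdLem.simple_a6

/-! ### counting elements -/

theorem card_sub (P : Perm (Fin 6) → Prop) [DecidablePred P] :
    Nat.card {v : L6 // P v} = (Finset.univ.filter fun v : Perm (Fin 6) => P v ∧ Perm.sign v = 1).card := by
  classical
  let e : {v : L6 // P v} ≃ {v : Perm (Fin 6) // P v ∧ Perm.sign v = 1} :=
    { toFun := fun v => ⟨v.1, v.2, Perm.mem_alternatingGroup.1 v.1.2⟩
      invFun := fun v => ⟨⟨v.1, Perm.mem_alternatingGroup.2 v.2.2⟩, v.2.1⟩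
      left_inv := fun _ => rfl
      right_inv := fun _ => rfl }
  rw [Nat.card_congr e, Nat.card_eq_fintype_card, Fintype.card_subtype]

theorem sg (u : L6) : Perm.sign (u : Perm (Fin 6)) = 1 := Perm.mem_alternatingGroup.1 u.2

theorem cent_facts {u : L6} {n : ℕ} (hd : nC u = n) : Nat.card {v : L6 // u * v = v * u} = n := by
  rw [← hd, nC, ← card_sub fun v => (u : Perm (Fin 6)) * v = v * u]
  exact Nat.card_congr (Equiv.subtypeEquivRight fun v => Subtype.ext_iff)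

theorem nI_facts {u : L6} {n : ℕ} (hd : nI u = n) : Nat.card {v : L6 // v * v = 1 ∧ u * v = v * u ∧ v ≠ 1} = n := by
  rw [← hd, nI]
  have e : (Finset.univ.filter fun v : Perm (Fin 6) => v * v = 1 ∧ (u : Perm (Fin 6)) * v = v * u ∧ v ≠ 1 ∧ Perm.sign v = 1) =
      Finset.univ.filter fun v : Perm (Fin 6) => (v * v = 1 ∧ (u : Perm (Fin 6)) * v = v * u ∧ v ≠ 1) ∧ Perm.sign v = 1 := by
    apply Finset.filter_congr
    intro v _
    tauto
  rw [e, ← card_sub fun v => v * v = 1 ∧ (u : Perm (Fin 6)) * v = v * u ∧ v ≠ 1]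
  refine Nat.card_congr (Equiv.subtypeEquivRight fun v => ?_)
  rw [Subtype.ext_iff, Subtype.ext_iff, Ne, Subtype.ext_iff]
  rfl

theorem nV_facts {u : L6} {n : ℕ} (hd : nV u = n) :
    Nat.card {v : L6 // v * v = 1 ∧ v * u * v = u⁻¹ ∧ v ≠ 1} = n := by
  rw [← hd, nV]
  have e : (Finset.univ.filter fun v : Perm (Fin 6) => v * v = 1 ∧ v * (u : Perm (Fin 6)) * v = (u : Perm (Fin 6))⁻¹ ∧ v ≠ 1 ∧
      Perm.sign v = 1) = Finset.univ.filter fun v : Perm (Fin 6) =>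
      (v * v = 1 ∧ v * (u : Perm (Fin 6)) * v = (u : Perm (Fin 6))⁻¹ ∧ v ≠ 1) ∧ Perm.sign v = 1 := by
    apply Finset.filter_congr
    intro v _
    tauto
  rw [e, ← card_sub fun v => v * v = 1 ∧ v * (u : Perm (Fin 6)) * v = (u : Perm (Fin 6))⁻¹ ∧ v ≠ 1]
  refine Nat.card_congr (Equiv.subtypeEquivRight fun v => ?_)
  rw [Subtype.ext_iff, Subtype.ext_iff, Ne, Subtype.ext_iff]
  rfl

theorem ord_coe {u : L6} {p : ℕ} (hp : p.Prime) (h : u ^ p = 1) (h1 : u ≠ 1) : orderOf (u : Perm (Fin 6)) = p := by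
  have := Fact.mk hp
  rw [Subgroup.orderOf_coe]
  exact orderOf_eq_prime h h1

theorem two_facts {u : L6} (h : u ^ 2 = 1) (h1 : u ≠ 1) :
    Nat.card {v : L6 // u * v = v * u} = 8 ∧ Nat.card {v : L6 // v * v = 1 ∧ u * v = v * u ∧ v ≠ 1} = 5 := by
  obtain ⟨a, b⟩ := dec_two (ord_coe Nat.prime_two h h1) (sg u)
  exact ⟨cent_facts a, nI_facts b⟩

theorem three_facts {u : L6} (h : u ^ 3 = 1) (h1 : u ≠ 1) :
    Nat.card {v : L6 // u * v = v * u} = 9 ∧ Nat.card {v : L6 // v * v = 1 ∧ v * u * v = u⁻¹ ∧ v ≠ 1} = 9 := by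
  obtain ⟨a, b⟩ := dec_three (ord_coe Nat.prime_three h h1) (sg u)
  exact ⟨cent_facts a, nV_facts b⟩

theorem five_facts {u : L6} (h : u ^ 5 = 1) (h1 : u ≠ 1) :
    Nat.card {v : L6 // u * v = v * u} = 5 ∧ Nat.card {v : L6 // v * v = 1 ∧ v * u * v = u⁻¹ ∧ v ≠ 1} = 5 := by
  obtain ⟨a, b⟩ := dec_five (ord_coe (by norm_num) h h1) (sg u)
  exact ⟨cent_facts a, nV_facts b⟩

/-- the elements of order 2 -/
theorem card_two : Nat.card {u : L6 // u ^ 2 = 1 ∧ u ≠ 1} = 45 := by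
  have e : Nat.card {u : L6 // u ^ 2 = 1 ∧ u ≠ 1} = Nat.card {u : L6 // (u : Perm (Fin 6)) * u = 1 ∧ (u : Perm (Fin 6)) ≠ 1} := by
    refine Nat.card_congr (Equiv.subtypeEquivRight fun v => ?_)
    rw [Subtype.ext_iff, Ne, Subtype.ext_iff, pow_two]
    rfl
  rw [e, card_sub fun t => t * t = 1 ∧ t ≠ 1]
  exact dec_card2

theorem card_three : Nat.card {u : L6 // u ^ 3 = 1 ∧ u ≠ 1} = 80 := by
  have e : Nat.card {u : L6 // u ^ 3 = 1 ∧ u ≠ 1} =
      Nat.card {u : L6 // (u : Perm (Fin 6)) * u * u = 1 ∧ (u : Perm (Fin 6)) ≠ 1} := by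
    refine Nat.card_congr (Equiv.subtypeEquivRight fun v => ?_)
    rw [Subtype.ext_iff, Ne, Subtype.ext_iff, pow_succ, pow_two]
    rfl
  rw [e, card_sub fun t => t * t * t = 1 ∧ t ≠ 1]
  exact dec_card3

theorem card_five : Nat.card {u : L6 // u ^ 5 = 1 ∧ u ≠ 1} = 144 := by
  have e : Nat.card {u : L6 // u ^ 5 = 1 ∧ u ≠ 1} =
      Nat.card {u : L6 // (u : Perm (Fin 6)) * u * u * u * u = 1 ∧ (u : Perm (Fin 6)) ≠ 1} := by
    refine Nat.card_congr (Equiv.subtypeEquivRight fun v => ?_)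
    rw [Subtype.ext_iff, Ne, Subtype.ext_iff, pow_succ, pow_succ, pow_succ, pow_two]
    rfl
  rw [e, card_sub fun t => t * t * t * t * t = 1 ∧ t ≠ 1]
  exact dec_card5

/-- the weight: the indicator of the involutions -/
def wt (t : L6) : ℕ := if t ^ 2 = 1 ∧ t ≠ 1 then 1 else 0

theorem wt_one : wt 1 = 0 := by
  unfold wt
  rw [if_neg]
  rintro ⟨-, h⟩
  exact h rfl

theorem sum_wt : ∑ t : L6, wt t ≤ 45 := by
  unfold wt
  rw [← Finset.sum_filter, Finset.sum_const, smul_eq_mul, mul_one, ← Fintype.card_subtype, ← Nat.card_eq_fintype_card,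
    card_two]

open Classical in
theorem le_sum {K : Subgroup L6} {P : L6 → Prop} (hP : ∀ t, P t → t ∈ K ∧ t ^ 2 = 1 ∧ t ≠ 1) {n : ℕ}
    (hn : n ≤ Nat.card {t : L6 // P t}) : n ≤ ∑ t : L6, if t ∈ K then wt t else 0 := by
  have h1 : ∀ t : L6, (if t ∈ K then wt t else 0) = if t ∈ K ∧ t ^ 2 = 1 ∧ t ≠ 1 then 1 else 0 := by
    intro t
    unfold wt
    by_cases h1 : t ∈ K
    · by_cases h2 : t ^ 2 = 1 ∧ t ≠ 1
      · rw [if_pos h1, if_pos h2, if_pos ⟨h1, h2⟩]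
      · rw [if_pos h1, if_neg h2, if_neg fun h => h2 h.2]
    · rw [if_neg h1, if_neg fun h => h1 h.1]
  rw [Finset.sum_congr rfl fun t _ => h1 t, ← Finset.sum_filter, Finset.sum_const, smul_eq_mul, mul_one]
  refine hn.trans ?_
  rw [Nat.card_eq_fintype_card, Fintype.card_subtype]
  apply Finset.card_le_card
  intro t ht
  rw [Finset.mem_filter] at ht ⊢
  exact ⟨ht.1, hP t ht.2⟩

end Cfsg.Agent.H998.EPA
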